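import Groth.Agent.Formal2VBLib.Sections

/-!
# Morphisms of completions of finite locally free modules
-/

set_option autoImplicit false
set_option linter.unusedSectionVars false
set_option maxRecDepth 8000

noncomputable section

universe u

open CategoryTheory CategoryTheory.Limits AlgebraicGeometry TopologicalSpace Opposite
open ProjFormLib (ger res ger_res ger_smul ger_add ger_map exists_ger section_ext IsFrame exists_frame)
open CohCmpLib (stk homMod hVal happ ger_happ evS evMod curryMod)

namespace Formal2VBLib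

variable {X : Scheme.{u}} {E P P' : X.Modules}

/-- The sheaf of homomorphisms out of `E` as a functor. -/
def hMap (g : P ⟶ P') : homMod E P ⟶ homMod E P' := curryMod (evMod E P ≫ g)

theorem hVal_hMap (g : P ⟶ P') {V : X.Opens} (h : Γ(homMod E P, V)) (y : X) (hy : y ∈ V) (a : stk E y) :
    hVal ((hMap g).app V h) y hy a = ((DerSch.stalkFunctor X y).map g).hom (hVal h y hy a) := by
  rw [hMap, CohCmpLib.hVal_curryMod]
  obtain ⟨U, hyU, m, rfl⟩ := exists_ger E y a
  rw [← ger_res (homMod E P) (inf_le_left : V ⊓ U ≤ V) y ⟨hy, hyU⟩ h, ← ger_res E (inf_le_right : V ⊓ U ≤ U) y ⟨hy, hyU⟩ m,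
    CohCmpLib.evS_ger, ← CohCmpLib.hVal_res (inf_le_left : V ⊓ U ≤ V) h y ⟨hy, hyU⟩, ← ger_happ, ger_map]
  exact congrArg (ger P' y _) (congrArg (g.app (V ⊓ U)) (CohCmpLib.evMod_app _ _))

theorem evS_hMap (g : P ⟶ P') (y : X) (n : stk (homMod E P) y) (a : stk E y) :
    evS (evMod E P') y (((DerSch.stalkFunctor X y).map (hMap g)).hom n) a =
      ((DerSch.stalkFunctor X y).map g).hom (evS (evMod E P) y n a) := by
  obtain ⟨V, hy, h, rfl⟩ := exists_ger _ y n
  rw [ger_map, CohCmpLib.evS_evMod, CohCmpLib.evS_evMod, hVal_hMap]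

theorem oh_comp (f : E ⟶ P) (g : P ⟶ P') : (hMap g).app ⊤ (oh f) = oh (f ≫ g) :=
  CohCmpLib.homMod_ext fun y hy => LinearMap.ext fun a => by
    rw [hVal_hMap, hVal_oh, hVal_oh, Functor.map_comp]
    rfl

variable {A : Type u} [CommRing A] [X.Over (Spec (CommRingCat.of A))] (I : Ideal A) (n : ℕ)

/-- The comparison `Hom(E, P) / I ^ n → Hom(E, P / I ^ n P)`. -/
def qBar (E P : X.Modules) : Formal.modPow I n (homMod E P) ⟶ homMod E (Formal.modPow I n P) :=
  cokernel.desc _ (hMap (Formal.modPowπ I n P)) (smulFamily_comp_eq_zero I _ fun a ha => by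
    refine hom_ext_stalk fun y x => ?_
    rw [Functor.map_comp]
    change ((DerSch.stalkFunctor X y).map (hMap (Formal.modPowπ I n P))).hom
      (((DerSch.stalkFunctor X y).map (Formal.smulMod A (homMod E P) a)).hom x) = _
    rw [Formal.smulMod, stalk_smulModΓ, map_smul, Functor.map_zero]
    obtain ⟨V, hy, h, rfl⟩ := exists_ger _ y x
    rw [ger_map]
    change _ • _ = (0 : stk (homMod E (Formal.modPow I n P)) y)
    rw [← TopCat.Presheaf.germ_res_apply X.presheaf (homOfLE (le_top : V ≤ ⊤)) y hy
      (Coh.toGlobal (X ↘ Spec (CommRingCat.of A)) a), ← ger_smul,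
      ← CohCmpLib.ger_zero (homMod E (Formal.modPow I n P)) y hy]
    refine congrArg (ger (homMod E (Formal.modPow I n P)) y hy) (CohCmpLib.homMod_ext fun z hz => LinearMap.ext fun b => ?_)
    rw [CohCmpLib.hVal_smul, LinearMap.smul_apply, hVal_hMap, TopCat.Presheaf.germ_res_apply, ← map_smul]
    exact (stalk_π_eq_zero_iff I n P z _).2
      (Submodule.smul_mem_smul (Ideal.mem_map_of_mem (stalkHom A z) ha) Submodule.mem_top))

theorem π_qBar (E P : X.Modules) : Formal.modPowπ I n (homMod E P) ≫ qBar I n E P = hMap (Formal.modPowπ I n P) :=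
  cokernel.π_desc _ _ _

theorem isIso_qBar (hE : FlatMod.IsFinLocFree E) (P : X.Modules) : IsIso (qBar I n E P) :=
  KFlatLib.isIso_of_stalks _ fun y => by
    obtain ⟨U, k, e, hy, he⟩ := exists_frame hE y
    let b := he.basis y hy
    let F := DerSch.stalkFunctor X y
    let J := (I ^ n).map (stalkHom A y)
    let ev := evS (evMod E P) y
    have hev : Function.Bijective ev := CohCmpLib.homEv_evMod hE y
    have hev' := CohCmpLib.homEv_evMod (P := Formal.modPow I n P) hE y
    have hπ : Function.Surjective (F.map (Formal.modPowπ I n (homMod E P))).hom :=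
      (ModuleCat.epi_iff_surjective _).1 inferInstance
    have hπP : Function.Surjective (F.map (Formal.modPowπ I n P)).hom :=
      (ModuleCat.epi_iff_surjective _).1 inferInstance
    have key : ∀ x a, evS (evMod E (Formal.modPow I n P)) y ((F.map (qBar I n E P)).hom
        ((F.map (Formal.modPowπ I n (homMod E P))).hom x)) a = (F.map (Formal.modPowπ I n P)).hom (ev x a) := by
      intro x a
      rw [show (F.map (qBar I n E P)).hom ((F.map (Formal.modPowπ I n (homMod E P))).hom x) =
        (F.map (hMap (Formal.modPowπ I n P))).hom x by rw [← π_qBar, F.map_comp]; rfl]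
      exact evS_hMap _ y x a
    refine (ConcreteCategory.isIso_iff_bijective _).mpr ⟨?_, ?_⟩
    · refine (injective_iff_map_eq_zero (F.map (qBar I n E P)).hom).2 fun c hc => ?_
      obtain ⟨x, rfl⟩ := hπ c
      refine (stalk_π_eq_zero_iff I n (homMod E P) y x).2 ?_
      let evE := LinearEquiv.ofBijective ev hev
      have hx : ev x ∈ J • (⊤ : Submodule (X.presheaf.stalk y) (stk E y →ₗ[X.presheaf.stalk y] stk P y)) := by
        have hsum : ev x = ∑ i, (b.coord i).smulRight (ev x (b i)) := b.ext fun j => by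
          classical
          rw [LinearMap.sum_apply, Finset.sum_eq_single j]
          · rw [LinearMap.smulRight_apply, Module.Basis.coord_apply, Module.Basis.repr_self, Finsupp.single_eq_same,
              one_smul]
          · intro i _ hi
            rw [LinearMap.smulRight_apply, Module.Basis.coord_apply, Module.Basis.repr_self,
              Finsupp.single_eq_of_ne hi, zero_smul]
          · exact fun h => absurd (Finset.mem_univ j) h
        rw [hsum]
        refine Submodule.sum_mem _ fun i _ => ?_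
        have h1 : ev x (b i) ∈ J • (⊤ : Submodule _ (stk P y)) :=
          (stalk_π_eq_zero_iff I n P y _).1 <| by
            rw [← key, hc, map_zero]
            rfl
        have h2 := Submodule.mem_map_of_mem
          (f := (LinearMap.smulRightₗ (b.coord i) : stk P y →ₗ[X.presheaf.stalk y] stk E y →ₗ[X.presheaf.stalk y] stk P y)) h1
        rw [Submodule.map_smul''] at h2
        exact Submodule.smul_mono le_rfl le_top h2
      have h3 := Submodule.mem_map_of_mem (f := evE.symm.toLinearMap) hx
      rw [Submodule.map_smul''] at h3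
      rw [show x = evE.symm (ev x) from (evE.symm_apply_apply x).symm]
      exact Submodule.smul_mono le_rfl le_top h3
    · intro c
      choose v hv using fun i => hπP (evS (evMod E (Formal.modPow I n P)) y c (b i))
      obtain ⟨x, hx⟩ := hev.2 (b.constr (X.presheaf.stalk y) v)
      refine ⟨(F.map (Formal.modPowπ I n (homMod E P))).hom x, hev'.1 (b.ext fun i => ?_)⟩
      rw [key, hx, Module.Basis.constr_basis, hv]

theorem qBar_trans (E P : X.Modules) :
    qBar I (n + 1) E P ≫ hMap (Formal.modPowTrans I n P) = Formal.modPowTrans I n (homMod E P) ≫ qBar I n E P := by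
  rw [← cancel_epi (Formal.modPowπ I (n + 1) (homMod E P)), ← Category.assoc, π_qBar, ← Category.assoc,
    Formal.modPowπ_trans, π_qBar]
  refine hom_ext_stalk fun y x => ?_
  obtain ⟨V, hy, h, rfl⟩ := exists_ger _ y x
  rw [ger_map, ger_map]
  refine congrArg (ger _ y hy) (CohCmpLib.homMod_ext fun z hz => LinearMap.ext fun a => ?_)
  change hVal ((hMap (Formal.modPowTrans I n P)).app V ((hMap (Formal.modPowπ I (n + 1) P)).app V h)) z hz a = _
  rw [hVal_hMap, hVal_hMap, hVal_hMap, ← Formal.modPowπ_trans I n P, Functor.map_comp]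
  rfl

/-- Morphisms of completions are completions of morphisms. -/
theorem existsUnique_hom
    (h : ∀ E : X.Modules, FlatMod.IsFinLocFree E → Function.Bijective (Formal.toHHlim I E 0))
    {E E' : X.Modules} (hE : FlatMod.IsFinLocFree E) (hE' : FlatMod.IsFinLocFree E')
    (ψ : Formal.completion I E ⟶ Formal.completion I E') :
    ∃! φ : E ⟶ E', ∀ n : ℕ, Formal.modPowπ I (n + 1) E ≫ ψ.app (op n) = φ ≫ Formal.modPowπ I (n + 1) E' := by
  obtain ⟨hi, hs⟩ := (bijective_toHHlim_iff I _).1 (h _ (CohCmpLib.isFinLocFree_homMod hE hE'))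
  have hq : ∀ n, IsIso (qBar I n E E') := fun n => isIso_qBar I n hE E'
  have hπ : ∀ (n : ℕ) (s : Γ(homMod E E', ⊤)),
      (qBar I (n + 1) E E').app ⊤ ((Formal.modPowπ I (n + 1) (homMod E E')).app ⊤ s) =
        oh (sh s ≫ Formal.modPowπ I (n + 1) E') := fun n s => by
    rw [← oh_comp, oh_sh]
    exact congr($(congrArg (fun φ => Scheme.Modules.Hom.app φ ⊤) (π_qBar I (n + 1) E E')) s)
  have hinj : ∀ n, Function.Injective ((qBar I (n + 1) E E').app ⊤) := fun n a b hab => by
    have := hq (n + 1)
    have e := fun c => congr($(congrArg (fun φ => Scheme.Modules.Hom.app φ ⊤)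
      (IsIso.hom_inv_id (qBar I (n + 1) E E'))) c)
    exact (e a).symm.trans ((congrArg ((inv (qBar I (n + 1) E E')).app ⊤) hab).trans (e b))
  have hsurj : ∀ n (f : E ⟶ Formal.modPow I (n + 1) E'), ∃ t, (qBar I (n + 1) E E').app ⊤ t = oh f := fun n f => by
    have := hq (n + 1)
    exact ⟨(inv (qBar I (n + 1) E E')).app ⊤ (oh f), congr($(congrArg (fun φ => Scheme.Modules.Hom.app φ ⊤)
      (IsIso.inv_hom_id (qBar I (n + 1) E E'))) (oh f))⟩
  obtain ⟨g, hg⟩ : ∃ g : ∀ n, E ⟶ Formal.modPow I (n + 1) E', ∀ n, Formal.modPowπ I (n + 1) E ≫ ψ.app (op n) = g n :=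
    ⟨fun n => Formal.modPowπ I (n + 1) E ≫ ψ.app (op n), fun _ => rfl⟩
  choose t ht using fun n => hsurj n (g n)
  have hnat : ∀ n, g (n + 1) ≫ Formal.modPowTrans I (n + 1) E' = g n := fun n => by
    rw [← hg, ← hg]
    have e := ψ.naturality (homOfLE (Nat.le_succ n)).op
    rw [show (Formal.completion I E).map (homOfLE (Nat.le_succ n)).op = Formal.modPowTrans I (n + 1) E from
      Functor.ofOpSequence_map_homOfLE_succ _ n,
      show (Formal.completion I E').map (homOfLE (Nat.le_succ n)).op = Formal.modPowTrans I (n + 1) E' from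
      Functor.ofOpSequence_map_homOfLE_succ _ n] at e
    refine (Category.assoc _ _ _).trans ?_
    refine (congrArg (Formal.modPowπ I (n + 1 + 1) E ≫ ·) e.symm).trans ?_
    exact (Category.assoc _ _ _).symm.trans (congrArg (· ≫ ψ.app (op n)) (Formal.modPowπ_trans I (n + 1) E))
  have htc : ∀ n, (Formal.modPowTrans I (n + 1) (homMod E E')).app ⊤ (t (n + 1)) = t n := fun n => by
    refine hinj n ?_
    refine (congr($(congrArg (fun φ => Scheme.Modules.Hom.app φ ⊤) (qBar_trans I (n + 1) E E').symm) (t (n + 1)))).trans ?_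
    change (hMap (Formal.modPowTrans I (n + 1) E')).app ⊤ ((qBar I (n + 1 + 1) E E').app ⊤ (t (n + 1))) = _
    rw [ht, oh_comp, hnat, ht]
  obtain ⟨s, hs'⟩ := hs t htc
  refine ⟨sh s, fun n => oh_injective ?_, fun φ hφ => ?_⟩
  · refine (congrArg oh (hg n)).trans ?_
    exact (ht n).symm.trans ((congrArg ((qBar I (n + 1) E E').app ⊤) (hs' n)).symm.trans (hπ n s))
  · have hφ' : ∀ n, φ ≫ Formal.modPowπ I (n + 1) E' = g n := fun n => (hφ n).symm.trans (hg n)
    rw [← sh_oh φ]
    refine congrArg sh (sub_eq_zero.1 (hi _ fun n => hinj n ?_))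
    rw [map_sub, map_sub, hs', ht, hπ, sh_oh, hφ', sub_self, map_zero]

end Formal2VBLib
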