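import Groth.Agent.Formal2VBLib.Basic
import Groth.Agent.Formal2VBLib.Hom
import Groth.Agent.QCohLib.AbCoh
import Groth.Prelude.Def_Formal2
import Groth.Prelude.Def_Wider

/-!
# From `FormalCohBijective` to the formal completion of the structure sheaf of an open of `Spec A`
-/

set_option autoImplicit false
set_option linter.unusedSectionVars false
set_option maxRecDepth 8000

noncomputable section

universe u

open CategoryTheory CategoryTheory.Limits AlgebraicGeometry TopologicalSpace Opposite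

namespace Formal2VBLib

variable {A : Type u} [CommRing A] (V : (Spec (CommRingCat.of A)).Opens)

theorem square_apply {R : Type u} [CommRing R] {P Q Q' S : ModuleCat.{u} R} {f : P ⟶ Q} {g : Q ⟶ S} {h : P ⟶ Q'}
    {k : Q' ⟶ S} (e : f ≫ g = h ≫ k) (x : P) : g.hom (f.hom x) = k.hom (h.hom x) :=
  LinearMap.congr_fun (congrArg ModuleCat.Hom.hom e) x

theorem linear_apply_smul {R : Type u} [CommRing R] {P Q : ModuleCat.{u} R} (k : P ⟶ Q) (a : R) (x : P) :
    k.hom ((ModuleCat.ofHom (a • LinearMap.id : P →ₗ[R] P)).hom x) = a • k.hom x := k.hom.map_smul a x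

set_option maxHeartbeats 1600000 in
theorem tildeMap_smul (M : ModuleCat.{u} A) (a : A) :
    tilde.map (R := CommRingCat.of A) (ModuleCat.ofHom (a • LinearMap.id : M →ₗ[A] M)) =
      Formal.smulModΓ (tilde (R := CommRingCat.of A) M) ((Scheme.ΓSpecIso (CommRingCat.of A)).inv a) := by
  refine ((tilde.adjunction (R := CommRingCat.of A)).homEquiv M _).injective (ModuleCat.hom_ext (LinearMap.ext fun m => ?_))
  rw [Adjunction.homEquiv_unit, Adjunction.homEquiv_unit]
  exact (square_apply (tilde.toOpen_map_app (R := CommRingCat.of A)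
      (ModuleCat.ofHom (a • LinearMap.id : M →ₗ[A] M)) ⊤) m).trans
    (linear_apply_smul (tilde.toOpen (R := CommRingCat.of A) M ⊤) a m)

theorem restrict_smulModΓ {X Y : Scheme.{u}} (j : X ⟶ Y) [IsOpenImmersion j] (N : Y.Modules) (r : Γ(Y, ⊤)) :
    (Scheme.Modules.restrictFunctor j).map (Formal.smulModΓ N r) =
      Formal.smulModΓ ((Scheme.Modules.restrictFunctor j).obj N) (j.appTop r) := by
  refine Scheme.Modules.hom_ext _ _ fun W => ConcreteCategory.hom_ext _ _ fun m => ?_
  change Y.presheaf.map (homOfLE (le_top : j ''ᵁ W ≤ ⊤)).op r • (show Γ(N, j ''ᵁ W) from m) =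
    (j.appIso W).inv (X.presheaf.map (homOfLE (le_top : W ≤ ⊤)).op (j.appTop r)) • (show Γ(N, j ''ᵁ W) from m)
  congr 1
  apply (j.appIso W).commRingCatIsoToRingEquiv.injective
  change (j.appIso W).hom _ = (j.appIso W).hom ((j.appIso W).inv _)
  rw [Iso.inv_hom_id_apply]
  rw [← ConcreteCategory.comp_apply, Scheme.Hom.appIso_hom', Scheme.Hom.map_appLE]
  rfl

/-- `M ↦ (M~)|_V`. -/
abbrev restrTilde : ModuleCat.{u} A ⥤ (V : Scheme.{u}).Modules :=
  tilde.functor (CommRingCat.of A) ⋙ Scheme.Modules.restrictFunctor V.ι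

theorem restrTilde_smul (M : ModuleCat.{u} A) (a : A) :
    (restrTilde V).map (ModuleCat.ofHom (a • LinearMap.id : M →ₗ[A] M)) =
      Formal.smulMod A ((restrTilde V).obj M) a :=
  (congrArg (Scheme.Modules.restrictFunctor V.ι).map (tildeMap_smul M a)).trans (restrict_smulModΓ V.ι _ _)

instance preservesColimits_restrTilde : PreservesColimitsOfSize.{u, u} (restrTilde V) := by
  have : PreservesColimitsOfSize.{u, u} (tilde.functor (CommRingCat.of A)) :=
    tilde.adjunction.leftAdjoint_preservesColimits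
  infer_instance

variable (I : Ideal A) (M : Type u) [AddCommGroup M] [Module A M]

theorem smul_restrTilde_π (n : ℕ) {a : A} (ha : a ∈ I ^ (n + 1)) :
    Formal.smulMod A ((restrTilde V).obj (ModuleCat.of A M)) a ≫
      (restrTilde V).map (ModuleCat.ofHom (Formal2.quotPowπ A I M n)) = 0 := by
  rw [← restrTilde_smul, ← Functor.map_comp, show ModuleCat.ofHom (a • LinearMap.id : M →ₗ[A] M) ≫
    ModuleCat.ofHom (Formal2.quotPowπ A I M n) = 0 from ModuleCat.hom_ext (LinearMap.ext fun m =>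
      (Submodule.Quotient.mk_eq_zero _).2 (Submodule.smul_mem_smul ha Submodule.mem_top)), Functor.map_zero]

/-- `(M~|_V) / I ^ (n+1) → (M / I ^ (n+1) M)~|_V`. -/
def quotCmp (n : ℕ) : Formal.modPow I (n + 1) ((restrTilde V).obj (ModuleCat.of A M)) ⟶
    (restrTilde V).obj (ModuleCat.of A (Formal2.quotPow A I M n)) :=
  cokernel.desc _ ((restrTilde V).map (ModuleCat.ofHom (Formal2.quotPowπ A I M n)))
    (smulFamily_comp_eq_zero I _ fun _ ha => smul_restrTilde_π V I M n ha)

theorem π_quotCmp (n : ℕ) : Formal.modPowπ I (n + 1) ((restrTilde V).obj (ModuleCat.of A M)) ≫ quotCmp V I M n =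
    (restrTilde V).map (ModuleCat.ofHom (Formal2.quotPowπ A I M n)) :=
  cokernel.π_desc _ _ _

theorem isIso_quotCmp (n : ℕ) : IsIso (quotCmp V I M n) := by
  let g : (∐ fun _ : ↥(I ^ (n + 1)) => ModuleCat.of A M) ⟶ ModuleCat.of A M :=
    Sigma.desc fun a => ModuleCat.ofHom ((a : A) • LinearMap.id : M →ₗ[A] M)
  let q : ModuleCat.of A M ⟶ ModuleCat.of A (Formal2.quotPow A I M n) :=
    ModuleCat.ofHom (Formal2.quotPowπ A I M n)
  have hgq : g ≫ q = 0 := Sigma.hom_ext _ _ fun a => by
    rw [comp_zero, ← Category.assoc, Sigma.ι_desc]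
    exact ModuleCat.hom_ext (LinearMap.ext fun m =>
      (Submodule.Quotient.mk_eq_zero _).2 (Submodule.smul_mem_smul a.2 Submodule.mem_top))
  have hex : (ShortComplex.mk g q hgq).Exact := by
    rw [ShortComplex.moduleCat_exact_iff]
    intro x hx
    have hx' : x ∈ I ^ (n + 1) • (⊤ : Submodule A M) := (Submodule.Quotient.mk_eq_zero _).1 hx
    suffices h : I ^ (n + 1) • (⊤ : Submodule A M) ≤ LinearMap.range g.hom from h hx'
    refine Submodule.smul_le.2 fun a ha m _ => ⟨(Sigma.ι (fun _ : ↥(I ^ (n + 1)) => ModuleCat.of A M) ⟨a, ha⟩).hom m, ?_⟩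
    exact LinearMap.congr_fun (congrArg ModuleCat.Hom.hom (Sigma.ι_desc (fun a : ↥(I ^ (n + 1)) => ModuleCat.ofHom ((a : A) • LinearMap.id : M →ₗ[A] M)) ⟨a, ha⟩)) m
  haveI : Epi (ShortComplex.mk g q hgq).g :=
    (ModuleCat.epi_iff_surjective _).2 (Submodule.mkQ_surjective _)
  have hFg : (restrTilde V).map g ≫ Formal.modPowπ I (n + 1) ((restrTilde V).obj (ModuleCat.of A M)) = 0 := by
    refine (isColimitCofanMkObjOfIsColimit (restrTilde V) _ _
      (coproductIsCoproduct fun _ : ↥(I ^ (n + 1)) => ModuleCat.of A M)).hom_ext fun a => ?_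
    rcases a with ⟨a⟩
    change (restrTilde V).map (Sigma.ι (fun _ : ↥(I ^ (n + 1)) => ModuleCat.of A M) a) ≫ _ = _ ≫ 0
    rw [comp_zero, ← Category.assoc, ← Functor.map_comp, Sigma.ι_desc]
    exact (congrArg (· ≫ Formal.modPowπ I (n + 1) _) (restrTilde_smul V (ModuleCat.of A M) (a : A))).trans
      (smul_modPowπ I (n + 1) _ a.2)
  obtain ⟨s, hs⟩ := CokernelCofork.IsColimit.desc'
    (CokernelCofork.mapIsColimit (CokernelCofork.ofπ q hgq) hex.gIsCokernel (restrTilde V)) _ hFg
  refine ⟨s, ?_, ?_⟩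
  · rw [← cancel_epi (Formal.modPowπ I (n + 1) _), ← Category.assoc, π_quotCmp]
    exact hs.trans (Category.comp_id _).symm
  · haveI : Epi q := inferInstanceAs (Epi (ShortComplex.mk g q hgq).g)
    rw [← cancel_epi ((restrTilde V).map q), ← Category.assoc]
    refine (congrArg (· ≫ quotCmp V I M n) hs).trans ?_
    exact (π_quotCmp V I M n).trans (Category.comp_id _).symm

theorem quotCmp_trans (n : ℕ) :
    quotCmp V I M (n + 1) ≫ (restrTilde V).map (ModuleCat.ofHom (Formal2.quotPowTrans A I M n)) =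
      Formal.modPowTrans I (n + 1) ((restrTilde V).obj (ModuleCat.of A M)) ≫ quotCmp V I M n := by
  rw [← cancel_epi (Formal.modPowπ I (n + 1 + 1) _), ← Category.assoc, π_quotCmp, ← Category.assoc,
    Formal.modPowπ_trans, π_quotCmp, ← Functor.map_comp]
  rfl

/-- Degree zero `H^0(V, M~)` as sections. -/
def hv0 (N : Type u) [AddCommGroup N] [Module A N] : Formal2.HV A N 0 V ≃+ Γ(Formal2.tmod A N, V) :=
  QCohLib.h0 (F := Coh.toAb (Formal2.tmod A N)) (U := V)

theorem hv0_map {N N' : Type u} [AddCommGroup N] [Module A N] [AddCommGroup N'] [Module A N'] (φ : N →ₗ[A] N')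
    (x : Formal2.HV A N 0 V) :
    hv0 V N' (Formal2.HVmap A φ 0 V x) = (Formal2.tmodMap A φ).app V (hv0 V N x) :=
  QCohLib.h0_comp (F := Coh.toAb (Formal2.tmod A N)) (G := Coh.toAb (Formal2.tmod A N')) x
    ((SheafOfModules.toSheaf _).map (Formal2.tmodMap A φ))

/-- Global sections of `(N~)|_V`. -/
def topEquiv (N : Type u) [AddCommGroup N] [Module A N] :
    Γ((restrTilde V).obj (ModuleCat.of A N), ⊤) ≃+ Γ(Formal2.tmod A N, V) :=
  ((Formal2.tmod A N).presheaf.mapIso (eqToIso V.ι_image_top.symm).op).addCommGroupIsoToAddEquiv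

theorem topEquiv_map {N N' : Type u} [AddCommGroup N] [Module A N] [AddCommGroup N'] [Module A N'] (φ : N →ₗ[A] N')
    (s : Γ((restrTilde V).obj (ModuleCat.of A N), ⊤)) :
    topEquiv V N' (((restrTilde V).map (ModuleCat.ofHom φ)).app ⊤ s) = (Formal2.tmodMap A φ).app V (topEquiv V N s) :=
  (QCohLib.app_map (Formal2.tmodMap A φ) (eqToHom V.ι_image_top.symm) s).symm

/-- `FormalCohBijective` in degree zero gives bijectivity for `(M~)|_V`. -/
theorem bijective_toHHlim_restrTilde (h : Formal2.FormalCohBijective A I M 0 V) :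
    Function.Bijective (Formal.toHHlim I ((restrTilde V).obj (ModuleCat.of A M)) 0) := by
  have hπ : ∀ n s, (quotCmp V I M n).app ⊤ ((Formal.modPowπ I (n + 1) ((restrTilde V).obj (ModuleCat.of A M))).app ⊤ s) =
      ((restrTilde V).map (ModuleCat.ofHom (Formal2.quotPowπ A I M n))).app ⊤ s := fun n s =>
    congr($(congrArg (fun φ => Scheme.Modules.Hom.app φ ⊤) (π_quotCmp V I M n)) s)
  have hc : ∀ n, Function.Injective ((quotCmp V I M n).app ⊤) := fun n a b hab => by
    have := isIso_quotCmp V I M n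
    have e := fun c => congr($(congrArg (fun φ => Scheme.Modules.Hom.app φ ⊤) (IsIso.hom_inv_id (quotCmp V I M n))) c)
    exact (e a).symm.trans ((congrArg ((inv (quotCmp V I M n)).app ⊤) hab).trans (e b))
  obtain ⟨hi, hs⟩ := h
  refine (bijective_toHHlim_iff I _).2 ⟨fun s hs0 => ?_, fun t ht => ?_⟩
  · have h1 : (hv0 V M).symm (topEquiv V M s) = 0 := hi _ 0 fun n => (hv0 V _).injective <| by
      rw [hv0_map, AddEquiv.apply_symm_apply, ← topEquiv_map, ← hπ, hs0, map_zero, map_zero, map_zero, map_zero]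
    rwa [AddEquiv.map_eq_zero_iff, AddEquiv.map_eq_zero_iff] at h1
  · obtain ⟨x, hx⟩ := hs (fun n => (hv0 V _).symm (topEquiv V _ ((quotCmp V I M n).app ⊤ (t n)))) fun n =>
      (hv0 V _).injective <| by
        rw [hv0_map, AddEquiv.apply_symm_apply, ← topEquiv_map, AddEquiv.apply_symm_apply, ← ht n]
        exact congrArg (topEquiv V _) congr($(congrArg (fun φ => Scheme.Modules.Hom.app φ ⊤) (quotCmp_trans V I M n)) (t (n + 1)))
    refine ⟨(topEquiv V M).symm (hv0 V M x), fun n => hc n ((topEquiv V _).injective ?_)⟩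
    rw [hπ, topEquiv_map, AddEquiv.apply_symm_apply, ← hv0_map, hx n, AddEquiv.apply_symm_apply]

end Formal2VBLib

namespace Formal2VBLib

variable {A : Type u} [CommRing A]

/-- Bijectivity of `H⁰ → lim H⁰` is invariant under isomorphism. -/
theorem bijective_toHHlim_of_iso {X : Scheme.{u}} [X.Over (Spec (CommRingCat.of A))] (I : Ideal A) {M N : X.Modules}
    (e : M ≅ N) (h : Function.Bijective (Formal.toHHlim I M 0)) : Function.Bijective (Formal.toHHlim I N 0) := by
  obtain ⟨hi, hs⟩ := (bijective_toHHlim_iff I M).1 h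
  have h1 : ∀ {M N : X.Modules} (e : M ≅ N) (U : X.Opens) (s : Γ(M, U)), e.inv.app U (e.hom.app U s) = s :=
    fun e U s => congr($(congrArg (fun φ => Scheme.Modules.Hom.app φ U) e.hom_inv_id) s)
  have h2 : ∀ (n : ℕ), modMap I (n + 1) e.inv ≫ modMap I (n + 1) e.hom = 𝟙 _ := fun n => by
    rw [← modMap_comp, e.inv_hom_id, ← cancel_epi (Formal.modPowπ I (n + 1) N), π_modMap, Category.id_comp,
      Category.comp_id]
  refine (bijective_toHHlim_iff I N).2 ⟨fun s hs0 => ?_, fun t ht => ?_⟩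
  · have := hi (e.inv.app ⊤ s) fun n => by rw [← π_modMap_app, hs0 n, map_zero]
    rw [← h1 e.symm ⊤ s]
    exact (congrArg (e.hom.app ⊤) this).trans (map_zero _)
  · obtain ⟨s, hs'⟩ := hs (fun n => (modMap I (n + 1) e.inv).app ⊤ (t n)) fun n => by
      rw [← ht n]
      exact congr($(congrArg (fun φ => Scheme.Modules.Hom.app φ ⊤) (modMap_trans I (n + 1) e.inv)) (t (n + 1)))
    refine ⟨e.hom.app ⊤ s, fun n => ?_⟩
    rw [← π_modMap_app, hs' n]
    exact congr($(congrArg (fun φ => Scheme.Modules.Hom.app φ ⊤) (h2 n)) (t n))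

theorem nonempty_restrTilde_self (V : (Spec (CommRingCat.of A)).Opens) :
    Nonempty ((restrTilde V).obj (ModuleCat.of A A) ≅ Coh.structureModule (V : Scheme.{u})) :=
  ⟨(Scheme.Modules.restrictFunctor V.ι).mapIso (tildeSelf (R := CommRingCat.of A)) ≪≫
    Scheme.Modules.restrictUnitIso V.ι⟩

end Formal2VBLib
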