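import Groth.Agent.CohCmpLib.HomFrame
import Groth.Agent.FinLFAnnLib.Main
import Groth.Agent.QCohLib.QcqsSections

/-!
# A finite locally free module on a quasi-affine scheme from its global linear forms
-/

set_option autoImplicit false
set_option linter.unusedSectionVars false
set_option maxRecDepth 8000

noncomputable section

universe u

open CategoryTheory CategoryTheory.Limits AlgebraicGeometry TopologicalSpace Opposite
open ProjFormLib (ger res ger_res ger_smul ger_add ger_map exists_ger section_ext IsFrame exists_frame)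
open CohCmpLib (stk homMod homSec hVal happ ger_happ evS evMod exists_hom_of_frame)

namespace Formal2VBLib

variable {X : Scheme.{u}}

/-- The section `1` of the structure module. -/
def oneS (X : Scheme.{u}) (V : X.Opens) : Γ(Coh.structureModule X, V) := (1 : Γ(X, V))

theorem oneS_res {V W : X.Opens} (h : W ≤ V) :
    res (Coh.structureModule X) h (oneS X V) = oneS X W :=
  map_one (X.presheaf.map (homOfLE h).op).hom

theorem smul_oneS {V : X.Opens} (r : Γ(X, V)) :
    r • oneS X V = (show Γ(Coh.structureModule X, V) from r) := mul_one r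

theorem bijective_unitStalk (X : Scheme.{u}) (y : X) :
    Function.Bijective (LinearMap.toSpanSingleton (X.presheaf.stalk y) (stk (Coh.structureModule X) y)
      (ger (Coh.structureModule X) y (U := ⊤) trivial (oneS X ⊤))) := by
  constructor
  · rw [injective_iff_map_eq_zero]
    intro a ha
    obtain ⟨V, hV, r, rfl⟩ := X.presheaf.exists_germ_eq (x := y) a
    rw [LinearMap.toSpanSingleton_apply, ← ger_res _ le_top y hV, oneS_res, ← ger_smul, smul_oneS] at ha
    obtain ⟨W, hW, i₁, i₂, e⟩ := (Coh.structureModule X).presheaf.germ_eq y hV hV _ _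
      (ha.trans (CohCmpLib.ger_zero (Coh.structureModule X) y hV).symm)
    rw [map_zero] at e
    exact ((TopCat.Presheaf.germ_res_apply X.presheaf i₁ y hW r).symm.trans
      (congrArg (X.presheaf.germ W y hW) e)).trans (map_zero _)
  · intro a
    obtain ⟨V, hV, r, rfl⟩ := exists_ger _ y a
    refine ⟨X.presheaf.germ V y hV r, ?_⟩
    rw [LinearMap.toSpanSingleton_apply, ← ger_res _ le_top y hV, oneS_res, ← ger_smul, smul_oneS]

/-- The stalk of the structure module is the local ring. -/
def ψ (y : X) : stk (Coh.structureModule X) y ≃ₗ[X.presheaf.stalk y] X.presheaf.stalk y :=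
  (LinearEquiv.ofBijective _ (bijective_unitStalk X y)).symm

theorem ψ_ger {V : X.Opens} (y : X) (hy : y ∈ V) (r : Γ(X, V)) :
    ψ y (ger (Coh.structureModule X) y hy (show Γ(Coh.structureModule X, V) from r)) =
      X.presheaf.germ V y hy r := by
  rw [ψ, LinearEquiv.symm_apply_eq]
  change _ = LinearMap.toSpanSingleton _ _ _ (X.presheaf.germ V y hy r)
  rw [LinearMap.toSpanSingleton_apply, ← ger_res _ le_top y hy, oneS_res, ← ger_smul, smul_oneS]

theorem isFrame_oneS (X : Scheme.{u}) :
    IsFrame (Coh.structureModule X) fun _ : Fin 1 => oneS X ⊤ := fun y hy => by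
  refine (congrArg Function.Bijective (funext fun c => ?_)).mpr
    ((bijective_unitStalk X y).comp (LinearEquiv.funUnique (Fin 1) (X.presheaf.stalk y)
      (X.presheaf.stalk y)).bijective)
  rw [Fintype.linearCombination_apply, Fin.sum_univ_one]
  rfl

theorem isFinLocFree_structureModule (X : Scheme.{u}) : FlatMod.IsFinLocFree (Coh.structureModule X) :=
  CohCmpLib.isFinLocFree_of_frames fun _ => ⟨⊤, 1, fun _ => oneS X ⊤, trivial, isFrame_oneS X⟩

/-- The dual of a module. -/
abbrev du (E : X.Modules) : X.Modules := homMod E (Coh.structureModule X)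

variable {E : X.Modules}

/-- The value of a local linear form on the stalk. -/
def val {W : X.Opens} (σ : Γ(du E, W)) (y : X) (hy : y ∈ W) :
    stk E y →ₗ[X.presheaf.stalk y] X.presheaf.stalk y :=
  (ψ y).toLinearMap ∘ₗ hVal σ y hy

theorem val_res {V W : X.Opens} (h : V ≤ W) (σ : Γ(du E, W)) (y : X) (hy : y ∈ V) :
    val (res (du E) h σ) y hy = val σ y (h hy) := rfl

theorem val_smul {W : X.Opens} (r : Γ(X, W)) (σ : Γ(du E, W)) (y : X) (hy : y ∈ W) :
    val (r • σ) y hy = X.presheaf.germ W y hy r • val σ y hy := by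
  rw [val, CohCmpLib.hVal_smul, LinearMap.comp_smul]
  rfl

theorem val_add {W : X.Opens} (σ τ : Γ(du E, W)) (y : X) (hy : y ∈ W) :
    val (σ + τ) y hy = val σ y hy + val τ y hy := by
  rw [val, CohCmpLib.hVal_add, LinearMap.comp_add]
  rfl

theorem val_ger {W : X.Opens} (σ : Γ(du E, W)) (e : Γ(E, W)) (y : X) (hy : y ∈ W) :
    val σ y hy (ger E y hy e) = X.presheaf.germ W y hy (happ σ e : Γ(X, W)) :=
  (congrArg (ψ y) (ger_happ σ e y hy).symm).trans (ψ_ger y hy _)

theorem ger_eq_zero_of_val (hE : FlatMod.IsFinLocFree E) {W : X.Opens} (σ : Γ(du E, W)) (y : X) (hy : y ∈ W)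
    (h : val σ y hy = 0) : ger (du E) y hy σ = 0 := by
  refine (CohCmpLib.homEv_evMod (P := Coh.structureModule X) hE y).1 ?_
  rw [map_zero, CohCmpLib.evS_evMod]
  exact LinearMap.ext fun a => (ψ y).injective ((LinearMap.congr_fun h a).trans (map_zero _).symm)

theorem val_sum {W : X.Opens} {ι : Type*} (t : Finset ι) (σ : ι → Γ(du E, W)) (y : X) (hy : y ∈ W) :
    val (∑ i ∈ t, σ i) y hy = ∑ i ∈ t, val (σ i) y hy := by
  classical
  induction t using Finset.induction_on with
  | empty => rw [Finset.sum_empty, Finset.sum_empty]; exact LinearMap.comp_zero _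
  | @insert i t hi ih => rw [Finset.sum_insert hi, Finset.sum_insert hi, val_add, ih]

theorem exists_dual_frame {n : ℕ} {U : X.Opens} {e : Fin n → Γ(E, U)} (he : IsFrame E e) {V : X.Opens}
    (hV : V ≤ U) :
    ∃ h : Fin n → Γ(du E, V), ∀ y (hy : y ∈ V) i j,
      val (h i) y hy (ger E y (hV hy) (e j)) = if i = j then 1 else 0 := by
  classical
  choose h hh using fun i : Fin n => exists_hom_of_frame (P := Coh.structureModule X) he hV
    fun j => if i = j then oneS X V else 0
  refine ⟨h, fun y hy i j => ?_⟩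
  refine (congrArg (ψ y) (hh i y hy j)).trans ?_
  split_ifs
  · exact (ψ_ger y hy (1 : Γ(X, V))).trans (map_one _)
  · rw [CohCmpLib.ger_zero]; exact map_zero _

theorem exists_pow_smul_extend [CompactSpace X] [QuasiSeparatedSpace X] (M : X.Modules) [Coh.IsQCoh M]
    (f : Γ(X, ⊤)) : QCohLib.LocalizingAt M f :=
  QCohLib.localizingAt_of_qcqs M isCompact_univ
    isQuasiSeparated_univ f

variable [X.IsQuasiAffine]

/-- Near every point: a frame of `E`, and global linear forms which are a unit times the dual frame. -/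
theorem exists_global_dual_frame (hE : FlatMod.IsFinLocFree E) (z : X) :
    ∃ (f : Γ(X, ⊤)) (n : ℕ) (e : Fin n → Γ(E, X.basicOpen f)) (m : ℕ) (σ : Fin n → Γ(du E, ⊤)),
      z ∈ X.basicOpen f ∧ IsFrame E e ∧ ∀ y (hy : y ∈ X.basicOpen f) i j,
        val (σ i) y trivial (ger E y hy (e j)) = if i = j then (X.presheaf.germ ⊤ y trivial f) ^ m else 0 := by
  haveI : Coh.IsQCoh (du E) :=
    FinLFAnn.isQCoh_of_isFinLocFree (CohCmpLib.isFinLocFree_homMod hE (isFinLocFree_structureModule X))
  obtain ⟨U, n, e₀, hz, he₀⟩ := exists_frame hE z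
  obtain ⟨_, ⟨_, ⟨f, hf, rfl⟩, rfl⟩, hzf, hfU⟩ :=
    (Scheme.IsQuasiAffine.isBasis_basicOpen X).exists_subset_of_mem_open (show z ∈ (U : Set X) from hz) U.2
  obtain ⟨h, hh⟩ := exists_dual_frame he₀ (hfU : X.basicOpen f ≤ U)
  choose m σ' hσ' using fun i => (exists_pow_smul_extend (du E) f).exists_extend (h i)
  refine ⟨f, n, fun i => res E hfU (e₀ i), Finset.univ.sum m,
    fun i => f ^ (Finset.univ.sum m - m i) • σ' i, hzf, he₀.res _, fun y hy i j => ?_⟩
  have h1 : val (res (du E) le_top (σ' i) : Γ(du E, X.basicOpen f)) y hy =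
      X.presheaf.germ ⊤ y trivial f ^ m i • val (h i) y hy := by
    rw [show res (du E) le_top (σ' i) = _ from hσ' i, val_smul, map_pow, TopCat.Presheaf.germ_res_apply]
  rw [ger_res, val_smul, LinearMap.smul_apply, ← val_res le_top (σ' i) y hy, h1, LinearMap.smul_apply, hh,
    map_pow, smul_smul, ← pow_add, Nat.sub_add_cancel (Finset.single_le_sum (fun _ _ => Nat.zero_le _)
      (Finset.mem_univ i))]
  split_ifs
  · rw [smul_eq_mul, mul_one]
  · rw [smul_zero]

theorem isUnit_germ {f : Γ(X, ⊤)} {y : X} (hy : y ∈ X.basicOpen f) : IsUnit (X.presheaf.germ ⊤ y trivial f) :=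
  (X.mem_basicOpen f y trivial).mp hy

/-- Global linear forms separate the stalks. -/
theorem stalk_ext (hE : FlatMod.IsFinLocFree E) (z : X) (a b : stk E z)
    (h : ∀ σ : Γ(du E, ⊤), val σ z trivial a = val σ z trivial b) : a = b := by
  obtain ⟨f, n, e, m, σ, hz, he, hσ⟩ := exists_global_dual_frame hE z
  refine (he.basis z hz).repr.injective (Finsupp.ext fun i => ((isUnit_germ hz).pow m).mul_left_cancel ?_)
  have key : ∀ c : stk E z, val (σ i) z trivial c =
      X.presheaf.germ ⊤ z trivial f ^ m * (he.basis z hz).repr c i := fun c => by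
    conv_lhs => rw [← (he.basis z hz).sum_repr c]
    rw [map_sum, Finset.sum_eq_single i, map_smul, IsFrame.basis_apply, hσ, if_pos rfl, smul_eq_mul, mul_comm]
    · intro j _ hj
      rw [map_smul, IsFrame.basis_apply, hσ, if_neg (Ne.symm hj), smul_zero]
    · exact fun h => absurd (Finset.mem_univ i) h
  rw [← key, ← key]
  exact h (σ i)

/-- A linear form on the global sections of the dual is evaluation at a global section. -/
theorem exists_section_of_linearForm [CompactSpace X] [QuasiSeparatedSpace X] (hE : FlatMod.IsFinLocFree E)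
    (L : Γ(du E, ⊤) →ₗ[Γ(X, ⊤)] Γ(X, ⊤)) :
    ∃ e : Γ(E, ⊤), ∀ (σ : Γ(du E, ⊤)) z,
      val σ z trivial (ger E z (U := ⊤) trivial e) = X.presheaf.germ ⊤ z trivial (L σ) := by
  haveI : Coh.IsQCoh (du E) :=
    FinLFAnn.isQCoh_of_isFinLocFree (CohCmpLib.isFinLocFree_homMod hE (isFinLocFree_structureModule X))
  haveI : Coh.IsQCoh (Coh.structureModule X) := QCohLib.isQCoh_unit
  have loc : ∀ z : X, ∃ (W : X.Opens) (eW : Γ(E, W)), z ∈ W ∧ ∀ (σ : Γ(du E, ⊤)) (y : X) (hy : y ∈ W),
      val σ y trivial (ger E y hy eW) = X.presheaf.germ ⊤ y trivial (L σ) := fun z => by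
    obtain ⟨f, n, e, m, σ', hz, he, hσ'⟩ := exists_global_dual_frame hE z
    let W := X.basicOpen f
    have hu : IsUnit (X.presheaf.map (homOfLE (X.basicOpen_le f)).op f) :=
      RingedSpace.isUnit_res_basicOpen _ f
    obtain ⟨v, hv⟩ := isUnit_iff_exists_inv.1 (hu.pow m)
    refine ⟨W, ∑ i, (v * X.presheaf.map (homOfLE (le_top : W ≤ ⊤)).op (L (σ' i))) • e i, hz,
      fun σ y hy => ?_⟩
    let u := X.presheaf.germ ⊤ y trivial f
    have huv : u ^ m * X.presheaf.germ W y hy v = 1 := by
      have := congrArg (X.presheaf.germ W y hy) hv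
      rw [map_mul, map_one, map_pow, TopCat.Presheaf.germ_res_apply] at this
      exact this
    let r : Fin n → Γ(X, W) := fun j => (happ (res (du E) le_top σ) (e j) : Γ(X, W))
    have hr : ∀ j, val σ y trivial (ger E y hy (e j)) = X.presheaf.germ W y hy (r j) := fun j => by
      rw [← val_res (le_top : W ≤ ⊤) σ y hy]
      exact val_ger _ _ y hy
    choose k R hR using fun j => (exists_pow_smul_extend (Coh.structureModule X) f).exists_extend (r j)
    let M := Finset.univ.sum k
    let R' : Fin n → Γ(X, ⊤) := fun j => f ^ (M - k j) * (show Γ(X, ⊤) from R j)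
    have hR' : ∀ j, X.presheaf.germ ⊤ y trivial (R' j) = u ^ M * X.presheaf.germ W y hy (r j) := fun j => by
      have e1 : X.presheaf.germ ⊤ y trivial (show Γ(X, ⊤) from R j) = u ^ k j * X.presheaf.germ W y hy (r j) := by
        refine (TopCat.Presheaf.germ_res_apply X.presheaf (homOfLE (le_top : W ≤ ⊤)) y hy
          (show Γ(X, ⊤) from R j)).symm.trans ?_
        refine (congrArg (X.presheaf.germ W y hy) (show X.presheaf.map (homOfLE (le_top : W ≤ ⊤)).op
          (show Γ(X, ⊤) from R j) = (X.presheaf.map (homOfLE (le_top : W ≤ ⊤)).op f) ^ k j * r j from hR j)).trans ?_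
        rw [map_mul, map_pow, TopCat.Presheaf.germ_res_apply]
      rw [map_mul, map_pow, e1, ← mul_assoc, ← pow_add,
        Nat.sub_add_cancel (Finset.single_le_sum (fun _ _ => Nat.zero_le _) (Finset.mem_univ j))]
    let τ : Γ(du E, ⊤) := f ^ (M + m) • σ - ∑ j, R' j • σ' j
    have hadd : τ + ∑ j, R' j • σ' j = f ^ (M + m) • σ := sub_add_cancel _ _
    have hτ : val τ y trivial = 0 := by
      refine (he.basis y hy).ext fun j => ?_
      have h2 := congrArg (fun t : Γ(du E, (⊤ : X.Opens)) => val t y trivial (ger E y hy (e j))) hadd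
      simp only [val_add, val_sum, val_smul, LinearMap.add_apply, LinearMap.coe_sum, Finset.sum_apply,
        LinearMap.smul_apply, smul_eq_mul] at h2
      rw [IsFrame.basis_apply, LinearMap.zero_apply]
      rw [Finset.sum_eq_single j (fun i _ hi => by rw [hσ', if_neg hi, mul_zero])
        (fun h => absurd (Finset.mem_univ j) h), hσ', if_pos rfl, hR', hr, map_pow, pow_add] at h2
      linear_combination h2
    obtain ⟨V, hyV, i₁, i₂, hV⟩ := (du E).presheaf.germ_eq y (show y ∈ (⊤ : X.Opens) from trivial) (show y ∈ (⊤ : X.Opens) from trivial) τ 0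
      ((ger_eq_zero_of_val hE τ y trivial hτ).trans (CohCmpLib.ger_zero (du E) y (U := ⊤) trivial).symm)
    rw [map_zero] at hV
    obtain ⟨_, ⟨_, ⟨g, hg, rfl⟩, rfl⟩, hyg, hgV⟩ :=
      (Scheme.IsQuasiAffine.isBasis_basicOpen X).exists_subset_of_mem_open (show y ∈ (V : Set X) from hyV) V.2
    obtain ⟨p, hp⟩ := (exists_pow_smul_extend (du E) g).eq_zero τ (by
      have h5 : res (du E) hgV (res (du E) (le_top : V ≤ ⊤) τ) = 0 :=
        (congrArg (res (du E) hgV) hV).trans (map_zero _)
      refine Eq.trans ?_ h5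
      exact section_ext _ _ fun w hw => by rw [ger_res, ger_res, ger_res])
    have hp' : g ^ p • τ = 0 := by
      rw [show g = X.presheaf.map (homOfLE (le_top : (⊤ : X.Opens) ≤ ⊤)).op g from
        congr($(X.presheaf.map_id (op ⊤)) g).symm]
      exact hp
    have hLτ : X.presheaf.germ ⊤ y trivial (L τ) = 0 := by
      have h3 := congrArg (X.presheaf.germ ⊤ y trivial) ((L.map_smul (g ^ p) τ).symm.trans
        ((congrArg L hp').trans (map_zero L)))
      rw [smul_eq_mul, map_mul, map_pow, map_zero] at h3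
      exact ((isUnit_germ hyg).pow p).mul_right_eq_zero.1 h3
    have hL : L τ + ∑ j, R' j • L (σ' j) = f ^ (M + m) • L σ := by
      simp only [← map_smul, ← map_sum, ← map_add, hadd]
    have h4 := congrArg (X.presheaf.germ ⊤ y trivial) hL
    simp only [map_add, hLτ, zero_add, map_sum, smul_eq_mul, map_mul, map_pow, hR'] at h4
    refine ((isUnit_germ hy).pow (M + m)).mul_left_cancel ?_
    refine Eq.trans ?_ h4
    rw [CohCmpLib.ger_sum, map_sum, Finset.mul_sum]
    refine Finset.sum_congr rfl fun j _ => ?_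
    rw [ger_smul, map_smul, hr, smul_eq_mul, map_mul, TopCat.Presheaf.germ_res_apply, pow_add]
    linear_combination (u ^ M * X.presheaf.germ W y hy (r j) * X.presheaf.germ ⊤ y trivial (L (σ' j))) * huv
  choose W eW hW heW using loc
  let a : ∀ y : (⊤ : X.Opens), stk E y.1 := fun y => ger E y.1 (hW y.1) (eW y.1)
  obtain ⟨e, he⟩ := CohCmpLib.exists_section_of_germs E a fun y =>
    ⟨W y.1, le_top, hW y.1, eW y.1, fun z hz => stalk_ext hE z _ _ fun σ =>
      (heW y.1 σ z hz).trans (heW z σ z (hW z)).symm⟩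
  exact ⟨e, fun σ z => (congrArg (val σ z trivial) (he z trivial)).trans (heW z σ z (hW z))⟩

end Formal2VBLib
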