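import Groth.Agent.Formal2VBLib.Basic
import Groth.Agent.Formal2VBLib.Dual

/-!
# Formal sections of finite locally free modules on a quasi-affine scheme
-/

set_option autoImplicit false
set_option linter.unusedSectionVars false
set_option maxRecDepth 8000

noncomputable section

universe u

open CategoryTheory CategoryTheory.Limits AlgebraicGeometry TopologicalSpace Opposite
open ProjFormLib (ger res ger_res ger_smul ger_add ger_map exists_ger section_ext IsFrame exists_frame)
open CohCmpLib (stk homMod homSec hVal happ ger_happ evS evMod exists_hom_of_frame)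

namespace Formal2VBLib

variable {X : Scheme.{u}}

section SecHom

variable {M P : X.Modules}

/-- A global section of the sheaf of homomorphisms as a morphism. -/
def sh (h : Γ(homMod M P, (⊤ : X.Opens))) : M ⟶ P where
  val := PresheafOfModules.homMk
    { app := fun V => AddCommGrpCat.ofHom
        { toFun := fun m : Γ(M, V.unop) => happ (res (homMod M P) (le_top : V.unop ≤ ⊤) h) m
          map_zero' := section_ext _ _ fun y hy => by
            rw [ger_happ]
            exact ((congrArg _ (CohCmpLib.ger_zero M y hy)).trans (map_zero _)).trans (CohCmpLib.ger_zero P y hy).symm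
          map_add' := fun a b => section_ext _ _ fun y hy => by
            refine (ger_happ _ _ y hy).trans ((congrArg _ (ProjFormLib.ger_add M y hy a b)).trans ?_)
            refine (map_add _ _ _).trans (Eq.trans ?_ (ProjFormLib.ger_add P y hy _ _).symm)
            exact congr_arg₂ (· + ·) (ger_happ _ _ y hy).symm (ger_happ _ _ y hy).symm }
      naturality := fun V W i => by
        ext m
        refine section_ext _ _ fun y hy => ?_
        refine Eq.trans ?_ (ger_res P i.unop.le y hy _).symm
        refine (ger_happ _ _ y hy).trans (Eq.trans ?_ (ger_happ _ _ y _).symm)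
        exact congrArg _ (ger_res M i.unop.le y hy m) }
    (fun V r m => section_ext _ _ fun y hy => by
      refine (ger_happ _ _ y hy).trans ((congrArg _ (ProjFormLib.ger_smul M y hy r m)).trans ?_)
      refine (map_smul _ _ _).trans (Eq.trans ?_ (ProjFormLib.ger_smul P y hy r _).symm)
      exact congrArg _ (ger_happ _ _ y hy).symm)

theorem stalk_sh (h : Γ(homMod M P, (⊤ : X.Opens))) (y : X) (a : stk M y) :
    ((DerSch.stalkFunctor X y).map (sh h)).hom a = hVal h y trivial a := by
  obtain ⟨V, hy, m, rfl⟩ := exists_ger M y a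
  exact (ger_map (sh h) y hy m).trans (ger_happ _ _ y hy)

theorem hom_ext_stalk {f g : M ⟶ P}
    (h : ∀ y (a : stk M y), ((DerSch.stalkFunctor X y).map f).hom a = ((DerSch.stalkFunctor X y).map g).hom a) :
    f = g :=
  Scheme.Modules.hom_ext _ _ fun U => ConcreteCategory.hom_ext _ _ fun m => section_ext _ _ fun y hy => by
    rw [← ger_map, ← ger_map, h]

theorem sh_add (h h' : Γ(homMod M P, (⊤ : X.Opens))) : sh (h + h') = sh h + sh h' :=
  Scheme.Modules.hom_ext _ _ fun U => ConcreteCategory.hom_ext _ _ fun m => section_ext _ _ fun y hy => by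
    change ger P y hy ((sh (h + h')).app U m) = ger P y hy ((sh h).app U m + (sh h').app U m)
    rw [ger_add, ← ger_map, ← ger_map, ← ger_map, stalk_sh, stalk_sh, stalk_sh, CohCmpLib.hVal_add]
    rfl

theorem sh_smul (r : Γ(X, ⊤)) (h : Γ(homMod M P, (⊤ : X.Opens))) : sh (r • h) = sh h ≫ Formal.smulModΓ P r :=
  hom_ext_stalk fun y a => by
    rw [Functor.map_comp]
    change _ = ((DerSch.stalkFunctor X y).map (Formal.smulModΓ P r)).hom (((DerSch.stalkFunctor X y).map (sh h)).hom a)
    rw [stalk_sh, stalk_sh, stalk_smulModΓ, CohCmpLib.hVal_smul]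
    rfl

/-- A morphism as a section of the sheaf of homomorphisms. -/
def oh (u : M ⟶ P) : Γ(homMod M P, (⊤ : X.Opens)) :=
  (show homSec M P ⊤ from ⟨fun y => ((DerSch.stalkFunctor X y.1).map u).hom,
    fun V _ m => ⟨u.app V m, fun y hy => (ger_map u y hy m).symm⟩⟩)

theorem hVal_oh (u : M ⟶ P) (y : X) : hVal (oh u) y trivial = ((DerSch.stalkFunctor X y).map u).hom := rfl

theorem sh_oh (u : M ⟶ P) : sh (oh u) = u := hom_ext_stalk fun y a => stalk_sh (oh u) y a

theorem oh_injective : Function.Injective (oh : (M ⟶ P) → Γ(homMod M P, (⊤ : X.Opens))) := fun f g h => by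
  rw [← sh_oh f, h, sh_oh]

theorem oh_sh (h : Γ(homMod M P, (⊤ : X.Opens))) : oh (sh h) = h :=
  CohCmpLib.homMod_ext fun y _ => LinearMap.ext fun a => stalk_sh h y a

end SecHom

variable {A : Type u} [CommRing A] [X.Over (Spec (CommRingCat.of A))] (I : Ideal A)

theorem modMap_comp (n : ℕ) {M N P : X.Modules} (f : M ⟶ N) (g : N ⟶ P) :
    modMap I n (f ≫ g) = modMap I n f ≫ modMap I n g := by
  rw [← cancel_epi (Formal.modPowπ I n M), π_modMap, ← Category.assoc (Formal.modPowπ I n M), π_modMap,
    Category.assoc, Category.assoc, π_modMap]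

theorem modMap_add (n : ℕ) {M N : X.Modules} (f g : M ⟶ N) :
    modMap I n (f + g) = modMap I n f + modMap I n g := by
  rw [← cancel_epi (Formal.modPowπ I n M), π_modMap, Preadditive.comp_add, π_modMap, π_modMap,
    Preadditive.add_comp]

theorem modMap_smulModΓ (n : ℕ) (M : X.Modules) (r : Γ(X, ⊤)) :
    modMap I n (Formal.smulModΓ M r) = Formal.smulModΓ (Formal.modPow I n M) r := by
  rw [← cancel_epi (Formal.modPowπ I n M), π_modMap, smulModΓ_naturality]

/-- Linear forms detect the sections of `E / I ^ n E`. -/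
theorem eq_zero_of_forms [X.IsQuasiAffine] {E : X.Modules} (hE : FlatMod.IsFinLocFree E) (n : ℕ)
    (d : Γ(Formal.modPow I n E, ⊤))
    (h : ∀ σ : Γ(du E, ⊤), (modMap I n (sh σ)).app ⊤ d = 0) : d = 0 := by
  refine section_ext _ _ fun y hy => ?_
  rw [CohCmpLib.ger_zero]
  let F := DerSch.stalkFunctor X y
  obtain ⟨a, ha⟩ := (ModuleCat.epi_iff_surjective (F.map (Formal.modPowπ I n E))).1 inferInstance
    (ger (Formal.modPow I n E) y hy d)
  rw [← ha]
  refine (stalk_π_eq_zero_iff I n E y a).2 ?_
  obtain ⟨f, k, e, m, σ, hyf, he, hσ⟩ := exists_global_dual_frame hE y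
  let b := he.basis y hyf
  rw [← b.sum_repr a]
  refine Submodule.sum_mem _ fun i _ => Submodule.smul_mem_smul ?_ Submodule.mem_top
  have h1 : (F.map (Formal.modPowπ I n (Coh.structureModule X))).hom (hVal (σ i) y trivial a) = 0 := by
    rw [← stalk_sh]
    change (F.map (sh (σ i)) ≫ F.map (Formal.modPowπ I n (Coh.structureModule X))).hom a = 0
    rw [← F.map_comp, ← π_modMap, F.map_comp]
    change (F.map (modMap I n (sh (σ i)))).hom ((F.map (Formal.modPowπ I n E)).hom a) = 0
    rw [ha, ger_map, h, CohCmpLib.ger_zero]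
  have h2 := (stalk_π_eq_zero_iff I n _ y _).1 h1
  have h3 : val (σ i) y trivial a ∈ (I ^ n).map (stalkHom A y) := by
    have h4 := Submodule.mem_map_of_mem (f := (ψ y).toLinearMap) h2
    rw [Submodule.map_smul''] at h4
    exact Submodule.smul_le.2 (fun r hr x _ => Ideal.mul_mem_right x _ hr) h4
  have h5 : val (σ i) y trivial a = X.presheaf.germ ⊤ y trivial f ^ m * b.repr a i := by
    conv_lhs => rw [← b.sum_repr a]
    rw [map_sum, Finset.sum_eq_single i, map_smul, IsFrame.basis_apply, hσ, if_pos rfl, smul_eq_mul, mul_comm]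
    · intro j _ hj
      rw [map_smul, IsFrame.basis_apply, hσ, if_neg (Ne.symm hj), smul_zero]
    · exact fun h => absurd (Finset.mem_univ i) h
  rw [h5] at h3
  exact (Ideal.unit_mul_mem_iff_mem _ ((isUnit_germ hyf).pow m)).1 h3

/-- If functions on a quasi-affine scheme are their own formal completion, so are sections of vector bundles. -/
theorem bijective_of_quasiAffine [CompactSpace X] [QuasiSeparatedSpace X] [X.IsQuasiAffine]
    (h : Function.Bijective (Formal.toHHlim I (Coh.structureModule X) 0))
    {E : X.Modules} (hE : FlatMod.IsFinLocFree E) : Function.Bijective (Formal.toHHlim I E 0) := by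
  obtain ⟨hi, hs⟩ := (bijective_toHHlim_iff I _).1 h
  have hO : ∀ s : Γ(Coh.structureModule X, ⊤), (∀ n, (Formal.modPowπ I (n + 1) (Coh.structureModule X)).app ⊤ s = 0)
      → s = 0 := hi
  refine (bijective_toHHlim_iff I E).2 ⟨fun e he => ?_, fun t ht => ?_⟩
  · refine section_ext _ _ fun y hy => stalk_ext hE y _ _ fun σ => ?_
    have h0 : (sh σ).app ⊤ e = 0 := hO _ fun n => by
      rw [← π_modMap_app, he n, map_zero]
    have := congrArg (fun s => ψ y (ger (Coh.structureModule X) y hy s)) h0
    simp only [CohCmpLib.ger_zero, map_zero, ← ger_map, stalk_sh] at this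
    rw [CohCmpLib.ger_zero, map_zero]
    exact this
  · have hcompat : ∀ (σ : Γ(du E, ⊤)) n, (Formal.modPowTrans I (n + 1) (Coh.structureModule X)).app ⊤
        ((modMap I (n + 1 + 1) (sh σ)).app ⊤ (t (n + 1))) = (modMap I (n + 1) (sh σ)).app ⊤ (t n) := fun σ n => by
      rw [← ht n]
      exact congr($(congrArg (fun φ => Scheme.Modules.Hom.app φ ⊤) (modMap_trans I (n + 1) (sh σ))) (t (n + 1)))
    choose L hL using fun σ : Γ(du E, ⊤) =>
      hs (fun n => (modMap I (n + 1) (sh σ)).app ⊤ (t n)) (hcompat σ)
    have huniq : ∀ s s' : Γ(Coh.structureModule X, ⊤), (∀ n, (Formal.modPowπ I (n + 1) (Coh.structureModule X)).app ⊤ s =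
        (Formal.modPowπ I (n + 1) (Coh.structureModule X)).app ⊤ s') → s = s' := fun s s' hss =>
      sub_eq_zero.1 (hO _ fun n => by rw [map_sub, hss n, sub_self])
    let L' : Γ(du E, ⊤) →ₗ[Γ(X, ⊤)] Γ(X, ⊤) :=
      { toFun := fun σ => (L σ : Γ(X, ⊤))
        map_add' := fun σ τ => huniq (L (σ + τ)) (L σ + L τ) fun n => by
          rw [hL, map_add, hL, hL, sh_add, modMap_add]
          rfl
        map_smul' := fun r σ => huniq (L (r • σ)) (r • L σ) fun n => by
          rw [hL, sh_smul, modMap_comp, modMap_smulModΓ, Scheme.Modules.Hom.app_smul, hL]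
          exact app_smulModΓ_top _ r _ }
    obtain ⟨e, he⟩ := exists_section_of_linearForm hE L'
    refine ⟨e, fun n => sub_eq_zero.1 (eq_zero_of_forms I hE (n + 1) _ fun σ => ?_)⟩
    have h1 : (sh σ).app ⊤ e = L σ := section_ext _ _ fun y hy => (ψ y).injective <| by
      rw [← ger_map, stalk_sh]
      exact (he σ y).trans (ψ_ger y hy (L' σ)).symm
    rw [map_sub, π_modMap_app, h1, hL, sub_self]

end Formal2VBLib
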