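import Groth.Agent.CohCmpLib.HomMod
import Groth.Agent.KFlatLib.Stalk
import Groth.Agent.QCohLib.AbCoh
import Groth.Prelude.Def_Formal2

/-!
# Stalks and sections of `M / I ^ n M`, and degree zero cohomology
-/

set_option autoImplicit false
set_option linter.unusedSectionVars false

noncomputable section

universe u

open CategoryTheory CategoryTheory.Limits AlgebraicGeometry TopologicalSpace Opposite
open ProjFormLib (ger res ger_res ger_smul ger_add ger_map exists_ger section_ext)
open CohCmpLib (stk)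

namespace Formal2VBLib

variable {A : Type u} [CommRing A] {X : Scheme.{u}} [X.Over (Spec (CommRingCat.of A))]

variable (A) in
/-- The structure map to a stalk. -/
def stalkHom (y : X) : A →+* X.presheaf.stalk y :=
  (X.presheaf.germ ⊤ y trivial).hom.comp (Coh.toGlobal (X ↘ Spec (CommRingCat.of A)))

theorem app_smulModΓ (M : X.Modules) (r : Γ(X, ⊤)) (U : X.Opens) (m : Γ(M, U)) :
    (Formal.smulModΓ M r).app U m = X.presheaf.map (homOfLE (le_top : U ≤ ⊤)).op r • m := rfl

theorem app_smulModΓ_top (M : X.Modules) (r : Γ(X, ⊤)) (m : Γ(M, ⊤)) :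
    (Formal.smulModΓ M r).app ⊤ m = r • m := by
  refine (app_smulModΓ M r ⊤ m).trans (congrArg (fun t => t • m) ?_)
  exact congr($(X.presheaf.map_id (op ⊤)) r)

theorem stalk_smulModΓ (M : X.Modules) (r : Γ(X, ⊤)) (y : X) (a : stk M y) :
    ((DerSch.stalkFunctor X y).map (Formal.smulModΓ M r)).hom a = X.presheaf.germ ⊤ y trivial r • a := by
  obtain ⟨U, hy, m, rfl⟩ := exists_ger M y a
  rw [ger_map, app_smulModΓ, ger_smul, TopCat.Presheaf.germ_res_apply]

theorem smulModΓ_naturality {M N : X.Modules} (φ : M ⟶ N) (r : Γ(X, ⊤)) :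
    Formal.smulModΓ M r ≫ φ = φ ≫ Formal.smulModΓ N r := by
  refine Scheme.Modules.hom_ext _ _ fun U => ConcreteCategory.hom_ext _ _ fun m => ?_
  exact Scheme.Modules.Hom.app_smul φ (X.presheaf.map (homOfLE (le_top : U ≤ ⊤)).op r) m

variable (I : Ideal A)

theorem smul_modPowπ (n : ℕ) (M : X.Modules) {a : A} (ha : a ∈ I ^ n) :
    Formal.smulMod A M a ≫ Formal.modPowπ I n M = 0 := by
  have h : Sigma.ι (fun _ : ↥(I ^ n) => M) ⟨a, ha⟩ ≫ Formal.smulFamily (I ^ n) M = Formal.smulMod A M a :=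
    Sigma.ι_desc _ _
  rw [← h, Category.assoc]
  exact (congrArg (fun t => _ ≫ t) (cokernel.condition (Formal.smulFamily (I ^ n) M))).trans comp_zero

theorem smulFamily_comp_eq_zero {n : ℕ} {M N : X.Modules} (φ : M ⟶ N)
    (h : ∀ a ∈ I ^ n, Formal.smulMod A M a ≫ φ = 0) : Formal.smulFamily (I ^ n) M ≫ φ = 0 :=
  Sigma.hom_ext _ _ fun a => by
    rw [comp_zero, ← Category.assoc]
    exact (congrArg (· ≫ φ) (Sigma.ι_desc _ a)).trans (h a a.2)

instance epi_π (n : ℕ) (M : X.Modules) : Epi (Formal.modPowπ I n M) := inferInstanceAs (Epi (cokernel.π _))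

/-- Functoriality of `M / I ^ n M`. -/
def modMap (n : ℕ) {M N : X.Modules} (φ : M ⟶ N) : Formal.modPow I n M ⟶ Formal.modPow I n N :=
  cokernel.desc _ (φ ≫ Formal.modPowπ I n N) (smulFamily_comp_eq_zero I _ fun a ha => by
    rw [← Category.assoc, Formal.smulMod, smulModΓ_naturality, Category.assoc]
    exact (congrArg (φ ≫ ·) (smul_modPowπ I n N ha)).trans comp_zero)

theorem π_modMap (n : ℕ) {M N : X.Modules} (φ : M ⟶ N) :
    Formal.modPowπ I n M ≫ modMap I n φ = φ ≫ Formal.modPowπ I n N :=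
  cokernel.π_desc _ _ _

theorem π_modMap_app (n : ℕ) {M N : X.Modules} (φ : M ⟶ N) (U : X.Opens) (s : Γ(M, U)) :
    (modMap I n φ).app U ((Formal.modPowπ I n M).app U s) = (Formal.modPowπ I n N).app U (φ.app U s) :=
  congr($(congrArg (fun f => Scheme.Modules.Hom.app f U) (π_modMap I n φ)) s)

theorem modMap_trans (n : ℕ) {M N : X.Modules} (φ : M ⟶ N) :
    modMap I (n + 1) φ ≫ Formal.modPowTrans I n N = Formal.modPowTrans I n M ≫ modMap I n φ := by
  rw [← cancel_epi (Formal.modPowπ I (n + 1) M), ← Category.assoc, π_modMap, Category.assoc,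
    Formal.modPowπ_trans, ← Category.assoc, Formal.modPowπ_trans, π_modMap]

theorem π_trans_app (n : ℕ) (M : X.Modules) (U : X.Opens) (s : Γ(M, U)) :
    (Formal.modPowTrans I n M).app U ((Formal.modPowπ I (n + 1) M).app U s) = (Formal.modPowπ I n M).app U s :=
  congr($(congrArg (fun f => Scheme.Modules.Hom.app f U) (Formal.modPowπ_trans I n M)) s)

/-- The kernel of `M_y → (M / I ^ n M)_y`. -/
theorem stalk_π_eq_zero_iff (n : ℕ) (M : X.Modules) (y : X) (a : stk M y) :
    ((DerSch.stalkFunctor X y).map (Formal.modPowπ I n M)).hom a = 0 ↔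
      a ∈ ((I ^ n).map (stalkHom A y)) • (⊤ : Submodule (X.presheaf.stalk y) (stk M y)) := by
  let F := DerSch.stalkFunctor X y
  let J : Ideal (X.presheaf.stalk y) := (I ^ n).map (stalkHom A y)
  let T : Submodule (X.presheaf.stalk y) (stk M y) := J • ⊤
  constructor
  · intro h
    let S : ShortComplex X.Modules := ShortComplex.mk (Formal.smulFamily (I ^ n) M) (Formal.modPowπ I n M)
      (cokernel.condition _)
    have hS : S.Exact := ShortComplex.exact_of_g_is_cokernel _ (cokernelIsCokernel _)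
    obtain ⟨b, hb⟩ := (ShortComplex.moduleCat_exact_iff _).1 (hS.map F) a h
    have hz : F.map (Formal.smulFamily (I ^ n) M) ≫ ModuleCat.ofHom T.mkQ = 0 := by
      refine (isColimitCofanMkObjOfIsColimit F _ _ (coproductIsCoproduct fun _ : ↥(I ^ n) => M)).hom_ext fun a => ?_
      rcases a with ⟨a⟩
      refine ModuleCat.hom_ext (LinearMap.ext fun x => ?_)
      change T.mkQ ((F.map (Formal.smulFamily (I ^ n) M)).hom ((F.map (Sigma.ι (fun _ : ↥(I ^ n) => M) a)).hom x)) = 0
      have e : (F.map (Formal.smulFamily (I ^ n) M)).hom ((F.map (Sigma.ι (fun _ : ↥(I ^ n) => M) a)).hom x) =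
          (F.map (Formal.smulMod A M (a : A))).hom x := by
        rw [show Formal.smulMod A M (a : A) = Sigma.ι (fun _ : ↥(I ^ n) => M) a ≫ Formal.smulFamily (I ^ n) M from
          (Sigma.ι_desc (fun a : ↥(I ^ n) => Formal.smulMod A M (a : A)) a).symm, F.map_comp]
        rfl
      rw [e]
      refine (Submodule.Quotient.mk_eq_zero T).2 ?_
      rw [Formal.smulMod, stalk_smulModΓ]
      exact Submodule.smul_mem_smul (Ideal.mem_map_of_mem _ a.2) Submodule.mem_top
    have h2 : T.mkQ ((F.map (Formal.smulFamily (I ^ n) M)).hom b) = 0 :=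
      congr($(congrArg ModuleCat.Hom.hom hz) b)
    exact (Submodule.Quotient.mk_eq_zero T).1 (by rw [← hb]; exact h2)
  · intro h
    suffices T ≤ LinearMap.ker (F.map (Formal.modPowπ I n M)).hom from this h
    refine Submodule.smul_le.2 fun c hc x _ => ?_
    rw [LinearMap.mem_ker, map_smul]
    refine Submodule.span_induction (p := fun c _ => c • (F.map (Formal.modPowπ I n M)).hom x = 0) ?_ ?_ ?_ ?_ hc
    · rintro _ ⟨a, ha, rfl⟩
      rw [← map_smul]
      have e : (F.map (Formal.smulMod A M a ≫ Formal.modPowπ I n M)).hom x = 0 := by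
        rw [smul_modPowπ I n M ha, F.map_zero]; rfl
      rw [F.map_comp] at e
      refine Eq.trans (congrArg _ ?_) e
      exact (stalk_smulModΓ M _ y x).symm
    · exact zero_smul _ _
    · intro b c _ _ hb hc
      rw [add_smul, hb, hc, add_zero]
    · intro b c _ hc
      rw [smul_eq_mul, mul_smul, hc, smul_zero]

/-- Degree zero cohomology is global sections. -/
def zeroΓ (M : X.Modules) : Coh.HH X M 0 ≃+ Γ(M, ⊤) :=
  (QCohLib.hEquiv ((SheafOfModules.toSheaf X.ringCatSheaf).obj M) 0).trans QCohLib.h0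

theorem zeroΓ_map {M N : X.Modules} (φ : M ⟶ N) (z : Coh.HH X M 0) :
    zeroΓ N (Sheaf.H.map ((SheafOfModules.toSheaf X.ringCatSheaf).map φ) 0 z) = φ.app ⊤ (zeroΓ M z) := by
  change QCohLib.h0 (QCohLib.hEquiv _ 0 _) = _
  rw [QCohLib.hEquiv_map, QCohLib.h0_comp]
  rfl

theorem zeroΓ_toHHlim (M : X.Modules) (z : Coh.HH X M 0) (n : ℕ) :
    zeroΓ _ ((Formal.toHHlim I M 0 z).1 n) = (Formal.modPowπ I (n + 1) M).app ⊤ (zeroΓ M z) :=
  zeroΓ_map _ z

/-- Bijectivity of `H⁰(X, M) → lim H⁰(X, M / I ^ (n + 1) M)`, on sections. -/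
theorem bijective_toHHlim_iff (M : X.Modules) :
    Function.Bijective (Formal.toHHlim I M 0) ↔
      (∀ s : Γ(M, ⊤), (∀ n, (Formal.modPowπ I (n + 1) M).app ⊤ s = 0) → s = 0) ∧
      (∀ t : ∀ n, Γ(Formal.modPow I (n + 1) M, ⊤), (∀ n, (Formal.modPowTrans I (n + 1) M).app ⊤ (t (n + 1)) = t n) →
        ∃ s : Γ(M, ⊤), ∀ n, (Formal.modPowπ I (n + 1) M).app ⊤ s = t n) := by
  constructor
  · rintro ⟨hi, hs⟩
    refine ⟨fun s hs0 => ?_, fun t ht => ?_⟩
    · have h0 : Formal.toHHlim I M 0 ((zeroΓ M).symm s) = 0 := by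
        refine Subtype.ext (funext fun n => (zeroΓ _).injective ?_)
        rw [zeroΓ_toHHlim, AddEquiv.apply_symm_apply, hs0]
        exact (map_zero _).symm
      have := hi (h0.trans (map_zero _).symm)
      rw [← (zeroΓ M).apply_symm_apply s, this, map_zero]
    · have hmem : (fun n => (zeroΓ (Formal.modPow I (n + 1) M)).symm (t n)) ∈ Formal.HHlim I M 0 := fun n =>
        (zeroΓ _).injective (((zeroΓ_map _ _).trans (by rw [AddEquiv.apply_symm_apply, ht])).trans
          ((zeroΓ _).apply_symm_apply (t n)).symm)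
      obtain ⟨z, hz⟩ := hs ⟨_, hmem⟩
      refine ⟨zeroΓ M z, fun n => ?_⟩
      rw [← zeroΓ_toHHlim, hz]
      exact AddEquiv.apply_symm_apply _ _
  · rintro ⟨hi, hs⟩
    refine ⟨(injective_iff_map_eq_zero _).2 fun z hz => ?_, fun w => ?_⟩
    · refine (zeroΓ M).injective ((hi _ fun n => ?_).trans (map_zero _).symm)
      rw [← zeroΓ_toHHlim, hz]
      exact map_zero _
    · obtain ⟨s, hs'⟩ := hs (fun n => zeroΓ _ (w.1 n)) fun n =>
        (zeroΓ_map _ _).symm.trans (congrArg _ (w.2 n))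
      refine ⟨(zeroΓ M).symm s, Subtype.ext (funext fun n => (zeroΓ _).injective ?_)⟩
      rw [zeroΓ_toHHlim, AddEquiv.apply_symm_apply, hs']

end Formal2VBLib
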